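import Groth.Agent.AVUniv.Stage
import Groth.Agent.PicRoot.Stage
import Groth.Agent.FrobPic.Pow

/-!
Descent of classes along affine transition limits and Frobenius twists along purely inseparable extensions.
-/

set_option autoImplicit false
set_option backward.isDefEq.respectTransparency false
set_option backward.isDefEq.respectTransparency.types false
set_option linter.style.haveILetI false
set_option linter.unusedSectionVars false
set_option maxHeartbeats 1000000

universe u

open CategoryTheory AlgebraicGeometry Opposite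
open Groth.Agent.W7Cube (pull pull_pull pull_cls)

noncomputable section

namespace Groth.Agent.PicFrob

attribute [local instance] W7Cube.law

section Limit

variable {I : Type u} [SmallCategory I] [IsCofiltered I] {D : I ⥤ Scheme.{u}} [∀ {i j} (f : i ⟶ j), IsAffineHom (D.map f)]
  {c : Limits.Cone D} {i₀ : I}

/-- classes on the limit come from a stage -/
theorem exists_cls_stage (hc : Limits.IsLimit c) [CompactSpace (D.obj i₀)] [QuasiSeparatedSpace (D.obj i₀)]
    (x : PicLoc.PicSet c.pt) :
    ∃ (j : I) (_ : j ⟶ i₀) (y : PicLoc.PicSet (D.obj j)), pull (c.π.app j) y = x := by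
  obtain ⟨L, hL, rfl⟩ := PicGrp.exists_eq_cls x
  haveI : Coh.IsQCoh (X := c.pt) L := TMul.isQCoh_of_isInvertible hL
  obtain ⟨j₁, ψ, G, hGq, hGf, ⟨e⟩⟩ := ModDesc.exists_descend (D := D) (c := c) hc (F := L)
    (W7Hull.isFP_of_isInvertible hL) (i₀ := i₀)
  haveI := hGq
  haveI : CompactSpace (D.obj j₁) := ModDesc.compactSpace_stage D ψ
  have hr : FlatMod.IsFinLocFreeOfRank 1 ((Scheme.Modules.pullback (c.π.app j₁)).obj G) :=
    CurveRR.isFinLocFreeOfRank_one (ParaFLib.isInvertible_of_iso e.symm hL)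
  obtain ⟨j, φ, hj⟩ := ModDesc.exists_isFinLocFreeOfRank_stage D c hc hGf hr
  refine ⟨j, φ ≫ ψ, PicGrp.cls _ (ZeroSch.isInvertible_of_rankOne hj), ?_⟩
  rw [pull_cls, PicGrp.cls_eq_cls_iff]
  exact ⟨(ModDesc.trIso (c.π.app j) (D.map φ) (c.w φ)).app G ≪≫ e⟩

/-- classes equal on the limit are equal at a stage -/
theorem exists_eq_stage (hc : Limits.IsLimit c) [CompactSpace (D.obj i₀)] [QuasiSeparatedSpace (D.obj i₀)]
    (y₁ y₂ : PicLoc.PicSet (D.obj i₀)) (h : pull (c.π.app i₀) y₁ = pull (c.π.app i₀) y₂) :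
    ∃ (j : I) (φ : j ⟶ i₀), pull (D.map φ) y₁ = pull (D.map φ) y₂ := by
  obtain ⟨L₁, hL₁, rfl⟩ := PicGrp.exists_eq_cls y₁
  obtain ⟨L₂, hL₂, rfl⟩ := PicGrp.exists_eq_cls y₂
  haveI : Coh.IsQCoh L₁ := TMul.isQCoh_of_isInvertible hL₁
  haveI : Coh.IsQCoh L₂ := TMul.isQCoh_of_isInvertible hL₂
  rw [pull_cls, pull_cls, PicGrp.cls_eq_cls_iff] at h
  obtain ⟨e⟩ := h
  obtain ⟨j, φ, f⟩ := PicRoot.exists_iso_stage hc (W7Hull.isFP_of_isInvertible hL₁) (W7Hull.isFP_of_isInvertible hL₂) e
  exact ⟨j, φ, by rw [pull_cls, pull_cls, PicGrp.cls_eq_cls_iff]; exact f⟩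

end Limit

/-- a subalgebra of a purely inseparable extension of finite type retracts to the field after Frobenius -/
theorem exists_retract {k k' : Type u} [Field k] [Field k'] [Algebra k k'] [IsPurelyInseparable k k']
    (p : ℕ) [Fact p.Prime] [CharP k p] (B : Subalgebra k k') (hB : B.FG) :
    ∃ (e : ℕ) (θ : ↥B →+* k), ∀ b : ↥B, algebraMap k ↥B (θ b) = b ^ p ^ e := by
  classical
  haveI : ExpChar k p := ExpChar.prime Fact.out
  haveI : CharP k' p := charP_of_injective_algebraMap (algebraMap k k').injective p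
  obtain ⟨s, rfl⟩ := hB
  have hpm : ∀ x : k', ∃ m : ℕ, x ^ p ^ m ∈ (algebraMap k k').range := fun x =>
    IsPurelyInseparable.pow_mem k p x
  choose m hm using hpm
  let e := s.sup m
  have hmem : ∀ x ∈ Algebra.adjoin k (s : Set k'), x ^ p ^ e ∈ (algebraMap k k').range := by
    intro x hx
    induction hx using Algebra.adjoin_induction with
    | mem x hx =>
      obtain ⟨d, hd⟩ := Nat.exists_eq_add_of_le (Finset.le_sup (f := m) hx : m x ≤ e)
      replace hd : e = m x + d := hd
      rw [hd, pow_add, pow_mul]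
      exact Subring.pow_mem _ (hm x) _
    | algebraMap r => exact ⟨r ^ p ^ e, map_pow _ _ _⟩
    | add x y _ _ hx hy =>
      rw [add_pow_char_pow]
      exact Subring.add_mem _ hx hy
    | mul x y _ _ hx hy =>
      rw [mul_pow]
      exact Subring.mul_mem _ hx hy
  haveI : ExpChar k' p := ExpChar.prime Fact.out
  refine ⟨e, (RingEquiv.ofBijective (algebraMap k k').rangeRestrict
    ⟨fun a b h => (algebraMap k k').injective (congrArg Subtype.val h), (algebraMap k k').rangeRestrict_surjective⟩).symm.toRingHom.comp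
      (RingHom.codRestrict ((iterateFrobenius k' p e).comp (Algebra.adjoin k (s : Set k')).val.toRingHom) _
        fun b => hmem b.1 b.2), fun b => Subtype.ext ?_⟩
  refine (congrArg Subtype.val (RingEquiv.apply_symm_apply (RingEquiv.ofBijective (algebraMap k k').rangeRestrict
    ⟨fun a b h => (algebraMap k k').injective (congrArg Subtype.val h), (algebraMap k k').rangeRestrict_surjective⟩) _)).trans ?_
  rw [SubmonoidClass.coe_pow]
  rfl

end Groth.Agent.PicFrob
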